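import Groth.Prelude.Def_KZero
import Mathlib

/-!
# `K₀` of finite modules over the ring of a node
-/

set_option autoImplicit false
set_option linter.style.haveILetI false
set_option maxHeartbeats 1000000
universe u

open CategoryTheory MvPolynomial

namespace Groth.Agent.NodeK028

variable (k : Type u) [Field k]

local notation "A" => MvPolynomial (Fin 2) k ⧸ Ideal.span {(MvPolynomial.X 0 * MvPolynomial.X 1 : MvPolynomial (Fin 2) k)}

/-- The class of a finite module. -/
noncomputable abbrev fin : ObjectProperty (ModuleCat.{u} A) := fun M => Module.Finite A M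

/-- The coordinate functions. -/
noncomputable abbrev co (i : Fin 2) : A := Ideal.Quotient.mk _ (X i)

theorem co_mul {i j : Fin 2} (h : i ≠ j) : co k i * co k j = 0 := by
  rw [co, co, ← map_mul, Ideal.Quotient.eq_zero_iff_mem]
  fin_cases i <;> fin_cases j <;> first | exact absurd rfl h | (simp [Ideal.mem_span_singleton, mul_comm])

theorem cls_ses {M N L : Type u} [AddCommGroup M] [Module A M] [Module.Finite A M] [AddCommGroup N] [Module A N]
    [Module.Finite A N] [AddCommGroup L] [Module A L] [Module.Finite A L] (f : M →ₗ[A] N) (g : N →ₗ[A] L)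
    (hf : Function.Injective f) (hg : Function.Surjective g) (h : Function.Exact f g) :
    KZero.clSub (fin k) (ModuleCat.of A N) =
      KZero.clSub (fin k) (ModuleCat.of A M) + KZero.clSub (fin k) (ModuleCat.of A L) := by
  have hS : (ShortComplex.mk (ModuleCat.ofHom f) (ModuleCat.ofHom g)
      (by ext x; exact h.apply_apply_eq_zero x)).ShortExact :=
    ModuleCat.shortComplex_shortExact _ h hf hg
  have hM : fin k (ModuleCat.of A M) := ‹Module.Finite A M›
  have hN : fin k (ModuleCat.of A N) := ‹Module.Finite A N›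
  have hL : fin k (ModuleCat.of A L) := ‹Module.Finite A L›
  rw [KZero.clSub, KZero.clSub, KZero.clSub, dif_pos hM, dif_pos hN, dif_pos hL, ← QuotientAddGroup.mk_add,
    eq_comm, QuotientAddGroup.eq]
  exact AddSubgroup.subset_closure ⟨_, hM, hN, hL, hS, by abel⟩

theorem cls_subsingleton {M : Type u} [AddCommGroup M] [Module A M] [Module.Finite A M] [Subsingleton M] :
    KZero.clSub (fin k) (ModuleCat.of A M) = 0 :=
  left_eq_add.1 (cls_ses k (0 : M →ₗ[A] M) (0 : M →ₗ[A] M) (Function.injective_of_subsingleton _)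
    (fun x => ⟨0, Subsingleton.elim _ _⟩) fun x => ⟨fun _ => ⟨0, Subsingleton.elim _ _⟩, fun _ => rfl⟩)

theorem cls_equiv {M N : Type u} [AddCommGroup M] [Module A M] [Module.Finite A M] [AddCommGroup N] [Module A N]
    [Module.Finite A N] (e : M ≃ₗ[A] N) :
    KZero.clSub (fin k) (ModuleCat.of A N) = KZero.clSub (fin k) (ModuleCat.of A M) := by
  rw [cls_ses k e.toLinearMap (0 : N →ₗ[A] PUnit.{u + 1}) e.injective (Function.surjective_to_subsingleton _)
    ((e.toLinearMap.exact_zero_iff_surjective _).2 e.surjective), cls_subsingleton k (M := PUnit.{u + 1}), add_zero]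

variable {k} {i j : Fin 2}

theorem fin_two (h : i ≠ j) (t : Fin 2) : t = i ∨ t = j := by omega

/-- `A/(xᵢ)` is the polynomial ring in the other variable. -/
theorem exists_equiv (h : i ≠ j) :
    ∃ e : (A ⧸ Ideal.span {co k i}) ≃ₐ[k] Polynomial k,
      e (Ideal.Quotient.mk _ (co k j)) = Polynomial.X := by
  let θ : MvPolynomial (Fin 2) k →ₐ[k] Polynomial k := aeval fun t => if t = i then 0 else Polynomial.X
  have hθ : ∀ a ∈ Ideal.span {(X 0 * X 1 : MvPolynomial (Fin 2) k)}, θ a = 0 := fun a ha => by
    obtain ⟨c, rfl⟩ := Ideal.mem_span_singleton.1 ha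
    rw [map_mul]
    fin_cases i <;> simp [θ]
  let θ' : A →ₐ[k] Polynomial k := Ideal.Quotient.liftₐ _ θ hθ
  have hθ'i : θ' (co k i) = 0 := by
    show θ (X i) = 0
    simp [θ]
  let θ'' : (A ⧸ Ideal.span {co k i}) →ₐ[k] Polynomial k := Ideal.Quotient.liftₐ _ θ' fun a ha => by
    obtain ⟨c, rfl⟩ := Ideal.mem_span_singleton.1 ha
    rw [map_mul, hθ'i, zero_mul]
  let ψ : Polynomial k →ₐ[k] (A ⧸ Ideal.span {co k i}) := Polynomial.aeval (Ideal.Quotient.mk _ (co k j))
  have hX : θ'' (Ideal.Quotient.mk _ (co k j)) = Polynomial.X := by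
    show θ (X j) = Polynomial.X
    simp [θ, h.symm]
  refine ⟨AlgEquiv.ofAlgHom θ'' ψ (Polynomial.algHom_ext ?_) ?_, hX⟩
  · simp only [AlgHom.comp_apply, ψ, Polynomial.aeval_X, AlgHom.id_apply]
    exact hX
  · refine Ideal.Quotient.algHom_ext _ (Ideal.Quotient.algHom_ext _ (MvPolynomial.algHom_ext fun t => ?_))
    show ψ (θ (X t)) = Ideal.Quotient.mk _ (co k t)
    rcases fin_two h t with rfl | rfl
    · have h0 : θ (X t) = 0 := by simp [θ]
      rw [h0, map_zero]
      exact (Ideal.Quotient.mk_singleton_self (co k t)).symm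
    · have h0 : θ (X t) = Polynomial.X := by simp [θ, h.symm]
      rw [h0]
      exact Polynomial.aeval_X _

theorem isPrime (h : i ≠ j) : (Ideal.span {co k i}).IsPrime := by
  obtain ⟨e, -⟩ := exists_equiv (k := k) h
  have : IsDomain (A ⧸ Ideal.span {co k i}) := e.toMulEquiv.isDomain (Polynomial k)
  exact (Ideal.Quotient.isDomain_iff_prime _).1 inferInstance

theorem notMem (h : i ≠ j) : co k j ∉ Ideal.span {co k i} := fun hmem => by
  obtain ⟨e, he⟩ := exists_equiv (k := k) h
  rw [(Ideal.Quotient.eq_zero_iff_mem).2 hmem, map_zero] at he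
  exact Polynomial.X_ne_zero he.symm

/-- Quotients by primes beyond the two axes have class zero. -/
theorem cls_quot_prime (h : i ≠ j) (P : Ideal A) [P.IsPrime] (hi : co k i ∈ P) :
    KZero.clSub (fin k) (ModuleCat.of A (A ⧸ P)) = 0 ∨ P = Ideal.span {co k i} := by
  rcases eq_or_ne P (Ideal.span {co k i}) with hP | hP
  · exact Or.inr hP
  refine Or.inl ?_
  obtain ⟨e, -⟩ := exists_equiv (k := k) h
  let Q := A ⧸ Ideal.span {co k i}
  have : IsDomain Q := e.toMulEquiv.isDomain (Polynomial k)
  have : IsPrincipalIdealRing Q := IsPrincipalIdealRing.of_surjective e.symm.toRingEquiv.toRingHom e.symm.surjective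
  have hle : Ideal.span {co k i} ≤ P := (Ideal.span_singleton_le_iff_mem _).2 hi
  obtain ⟨q, hq⟩ := (IsPrincipalIdealRing.principal (P.map (Ideal.Quotient.mk (Ideal.span {co k i})))).principal
  have hq0 : q ≠ 0 := fun h0 => hP (le_antisymm (fun x hx => by
    have := Ideal.mem_map_of_mem (Ideal.Quotient.mk (Ideal.span {co k i})) hx
    rw [hq, h0] at this
    exact Ideal.Quotient.eq_zero_iff_mem.1 (by simpa using this)) hle)
  let f : Q →ₗ[A] Q := LinearMap.mulLeft A q
  let g : Q →ₗ[A] A ⧸ P := Submodule.mapQ _ _ LinearMap.id hle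
  have hf : Function.Injective f := fun a b hab => mul_left_cancel₀ hq0 hab
  have hg : Function.Surjective g := fun a => by
    obtain ⟨a, rfl⟩ := Ideal.Quotient.mk_surjective a
    exact ⟨Ideal.Quotient.mk _ a, rfl⟩
  have hex : Function.Exact f g := fun a => by
    obtain ⟨a, rfl⟩ := Ideal.Quotient.mk_surjective a
    show (Ideal.Quotient.mk P a = 0) ↔ _
    rw [Ideal.Quotient.eq_zero_iff_mem]
    constructor
    · intro ha
      have := Ideal.mem_map_of_mem (Ideal.Quotient.mk (Ideal.span {co k i})) ha
      rw [hq] at this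
      obtain ⟨c, hc⟩ := Submodule.mem_span_singleton.1 this
      exact ⟨c, (mul_comm q c).trans hc⟩
    · rintro ⟨c, hc⟩
      have : Ideal.Quotient.mk (Ideal.span {co k i}) a ∈ P.map (Ideal.Quotient.mk (Ideal.span {co k i})) := by
        rw [hq]
        exact Submodule.mem_span_singleton.2 ⟨c, (mul_comm c q).trans hc⟩
      rw [Ideal.mem_map_iff_of_surjective _ Ideal.Quotient.mk_surjective] at this
      obtain ⟨y, hy, hya⟩ := this
      have := hle (Ideal.Quotient.eq.1 hya)
      simpa using P.sub_mem hy this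
  exact left_eq_add.1 (cls_ses k f g hf hg hex)

/-- Generic rank on the axis `xᵢ = 0`. -/
noncomputable def rk (P : Ideal A) [P.IsPrime] (M : Type u) [AddCommGroup M] [Module A M] : ℤ :=
  (Module.length (Localization.AtPrime P) (LocalizedModule P.primeCompl M)).toNat

theorem isField (h : i ≠ j) [(Ideal.span {co k i}).IsPrime] :
    IsField (Localization.AtPrime (Ideal.span {co k i})) := by
  rw [IsLocalRing.isField_iff_maximalIdeal_eq, ← IsLocalization.AtPrime.map_eq_maximalIdeal (Ideal.span {co k i}),
    Ideal.map_span, Set.image_singleton, Ideal.span_singleton_eq_bot]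
  exact (IsLocalization.map_eq_zero_iff (Ideal.span {co k i}).primeCompl _ _).2
    ⟨⟨co k j, notMem h⟩, (mul_comm (co k j) (co k i)).trans (co_mul k h)⟩

theorem isUnit_or_eq_zero (h : i ≠ j) [(Ideal.span {co k i}).IsPrime]
    (a : Localization.AtPrime (Ideal.span {co k i})) : IsUnit a ∨ a = 0 :=
  or_iff_not_imp_right.2 fun ha => by
    obtain ⟨b, hb⟩ := (isField (k := k) h).mul_inv_cancel ha
    exact IsUnit.of_mul_eq_one _ hb

theorem rk_add (h : i ≠ j) [(Ideal.span {co k i}).IsPrime] {M N L : Type u} [AddCommGroup M] [Module A M]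
    [Module.Finite A M] [AddCommGroup N] [Module A N]
    [Module.Finite A N] [AddCommGroup L] [Module A L] [Module.Finite A L] (f : M →ₗ[A] N) (g : N →ₗ[A] L)
    (hf : Function.Injective f) (hg : Function.Surjective g) (hex : Function.Exact f g) :
    rk (Ideal.span {co k i}) N = rk (Ideal.span {co k i}) M + rk (Ideal.span {co k i}) L := by
  let P := Ideal.span {co k i}
  letI : Field (Localization.AtPrime (Ideal.span {co k i})) := Field.ofIsUnitOrEqZero (isUnit_or_eq_zero h)
  let f' := LocalizedModule.map P.primeCompl f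
  let g' := LocalizedModule.map P.primeCompl g
  have h1 : Module.length (Localization.AtPrime P) (LocalizedModule P.primeCompl N) =
      Module.length (Localization.AtPrime P) (LocalizedModule P.primeCompl M) +
        Module.length (Localization.AtPrime P) (LocalizedModule P.primeCompl L) :=
    Module.length_eq_add_of_exact f' g' (LocalizedModule.map_injective _ f hf)
      (LocalizedModule.map_surjective _ g hg) (LocalizedModule.map_exact _ f g hex)
  have hfin : ∀ (W : Type u) [AddCommGroup W] [Module A W] [Module.Finite A W],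
      Module.length (Localization.AtPrime P) (LocalizedModule P.primeCompl W) ≠ ⊤ := fun W _ _ _ =>
    Module.length_ne_top
  show ((Module.length _ _).toNat : ℤ) = _
  rw [h1, ENat.toNat_add (hfin M) (hfin L), Nat.cast_add]
  rfl

theorem rk_zero [(Ideal.span {co k i}).IsPrime] (h : i ≠ j) :
    rk (Ideal.span {co k i}) (A ⧸ Ideal.span {co k j}) = 0 := by
  have : Subsingleton (LocalizedModule (Ideal.span {co k i}).primeCompl (A ⧸ Ideal.span {co k j})) := by
    rw [LocalizedModule.subsingleton_iff]
    intro m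
    obtain ⟨a, rfl⟩ := Ideal.Quotient.mk_surjective m
    exact ⟨co k j, notMem h, Ideal.Quotient.eq_zero_iff_mem.2 (Ideal.mem_span_singleton'.2 ⟨a, mul_comm _ _⟩)⟩
  rw [rk, Module.length_eq_zero]
  rfl

theorem rk_one [(Ideal.span {co k i}).IsPrime] (h : i ≠ j) :
    rk (Ideal.span {co k i}) (A ⧸ Ideal.span {co k i}) = 1 := by
  letI : Field (Localization.AtPrime (Ideal.span {co k i})) := Field.ofIsUnitOrEqZero (isUnit_or_eq_zero h)
  have hadd := rk_add (k := k) h (Submodule.subtype (Ideal.span {co k i})) (Submodule.mkQ (Ideal.span {co k i}))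
    (Submodule.injective_subtype _) (Submodule.mkQ_surjective _) (LinearMap.exact_subtype_mkQ _)
  have hsub : Subsingleton (LocalizedModule (Ideal.span {co k i}).primeCompl ↥(Ideal.span {co k i})) := by
    rw [LocalizedModule.subsingleton_iff]
    rintro ⟨m, hm⟩
    obtain ⟨c, rfl⟩ := Ideal.mem_span_singleton'.1 hm
    exact ⟨co k j, notMem h, Subtype.ext (by
      show co k j * (c * co k i) = 0
      rw [mul_left_comm, mul_comm (co k j), co_mul k h, mul_zero])⟩
  have h0 : rk (Ideal.span {co k i}) ↥(Ideal.span {co k i}) = 0 := by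
    rw [rk, Module.length_eq_zero]
    rfl
  have hA : rk (Ideal.span {co k i}) A = 1 := by
    rw [rk, (IsLocalizedModule.linearEquiv (Ideal.span {co k i}).primeCompl
      (LocalizedModule.mkLinearMap (Ideal.span {co k i}).primeCompl A)
      (Algebra.linearMap A (Localization.AtPrime (Ideal.span {co k i})))
      |>.extendScalarsOfIsLocalization (Ideal.span {co k i}).primeCompl
        (Localization.AtPrime (Ideal.span {co k i}))).length_eq,
      Module.length_of_free]
    simp
  rw [hA, h0, zero_add] at hadd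
  exact hadd.symm

end Groth.Agent.NodeK028
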